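import Mathlib
import Cfsg.Agent.H902.SameD

/-!
# Equal characteristic: the order of `L_n(q)`, `n ≥ 4`, is determined by its part prime to the characteristic
-/

set_option autoImplicit false

namespace Cfsg.Agent.H124.Cod.SameP

open Finset Cfsg.Agent.Lib.Zsigmondy Cfsg.Agent.H902 Cfsg.Agent.H902.Art

section

variable {X Y : Sh} {p f g M M' : ℕ}

theorem DM_le' (hX : Real X p f M) (hY : Real Y p g M')
    (hd : ∀ r : ℕ, r.Prime → r ≠ p → r ∣ M → r ∣ M') (h3 : 3 ≤ f * DM X) (h6 : ¬ (p = 2 ∧ f * DM X = 6)) :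
    f * DM X ≤ g * DM Y := by
  obtain ⟨r, hr, ho⟩ := exists_prime_orderOf hX.hp.two_le (show 2 ≤ f * DM X by omega) (fun h => by omega) h6
  have hrp : r ≠ p := ne_of_order hr (show 1 ≤ f * DM X by omega) ho
  have hd := hd r hr hrp (hX.dvd_of_order_DM hr ho h3)
  have hg := hY.hf
  have hge := DM_ge hY
  have hlt := BM_lt hY
  rcases hY.order_cases hr hrp hd with h | ⟨e, he, heB, h⟩
  · rw [ho] at h
    exact Nat.le_of_dvd (Nat.mul_pos hg (by omega)) h
  · rw [ho] at h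
    exact (Nat.le_of_dvd (Nat.mul_pos hg he) h).trans (Nat.mul_le_mul_left _ (by omega))

theorem BM_le' (hX : Real X p f M) (hY : Real Y p g M')
    (hd : ∀ r : ℕ, r.Prime → r ≠ p → r ∣ M → r ∣ M') (hB : DM X < 2 * BM X) (hDD : f * DM X = g * DM Y)
    (h3 : 3 ≤ f * BM X) (h6 : ¬ (p = 2 ∧ f * BM X = 6)) : f * BM X ≤ g * BM Y := by
  obtain ⟨r, hr, ho⟩ := exists_prime_orderOf hX.hp.two_le (show 2 ≤ f * BM X by omega) (fun h => by omega) h6
  have hrp : r ≠ p := ne_of_order hr (show 1 ≤ f * BM X by omega) ho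
  have hd := hd r hr hrp (hX.dvd_of_order_BM hr hB ho h3)
  have hf := hX.hf
  have hg := hY.hf
  have hlt := BM_lt hX
  rcases hY.order_cases hr hrp hd with h | ⟨e, he, heB, h⟩
  · exfalso
    rw [ho, ← hDD] at h
    obtain ⟨c, hc⟩ := Nat.dvd_of_mul_dvd_mul_left hf h
    have hc2 : c < 2 := by
      by_contra hcon
      have : BM X * 2 ≤ BM X * c := Nat.mul_le_mul_left _ (by omega)
      omega
    have hc0 : c ≠ 0 := by rintro rfl; omega
    have hc1 : c = 1 := by omega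
    rw [hc1] at hc
    omega
  · rw [ho] at h
    exact (Nat.le_of_dvd (Nat.mul_pos hg he) h).trans (Nat.mul_le_mul_left _ heB)

theorem cross' {a : ℕ} (hX : Real X p f M) (hY : Real Y p g M') (hk : M = p ^ a * M') :
    dd Y (p ^ g) * num X (p ^ f) = dd X (p ^ f) * num Y (p ^ g) := by
  have hp := hX.hp
  have hM' : M' ≠ 0 := hY.M_ne
  have h1 := hX.P_self
  have h2 := hY.P_self
  have h3 : (p ^ f) ^ NN X = p ^ a * (p ^ g) ^ NN Y := by
    rw [← h1, ← h2, hk, P_mul (pow_ne_zero _ hp.ne_zero) hM']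
    congr 1
    rw [P, hp.factorization_pow, Finsupp.single_eq_same]
  have h4 := hX.eq
  have h5 := hY.eq
  have hA : 0 < (p ^ f) ^ NN X := pow_pos (by have := hX.q_ge; omega) _
  apply Nat.eq_of_mul_eq_mul_left hA
  calc (p ^ f) ^ NN X * (dd Y (p ^ g) * num X (p ^ f)) = dd Y (p ^ g) * ((p ^ f) ^ NN X * num X (p ^ f)) := by ring
    _ = dd Y (p ^ g) * (dd X (p ^ f) * M) := by rw [h4]
    _ = dd X (p ^ f) * (p ^ a * (dd Y (p ^ g) * M')) := by rw [hk]; ring
    _ = dd X (p ^ f) * (p ^ a * ((p ^ g) ^ NN Y * num Y (p ^ g))) := by rw [h5]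
    _ = (p ^ f) ^ NN X * (dd X (p ^ f) * num Y (p ^ g)) := by rw [h3]; ring

end

/-- the finite check in characteristic two -/
theorem fin_same : ∀ a ∈ [(4, 1), (5, 1), (6, 1), (7, 1), (8, 1), (4, 2)], ∀ v ∈ List.range' 1 28, ∀ b ∈ ents 2 v,
    dd b.1 (2 ^ b.2) * num (.L a.1) (2 ^ a.2) = dd (.L a.1) (2 ^ a.2) * num b.1 (2 ^ b.2) →
      val 2 (.L a.1, a.2) = val 2 b := by
  decide +kernel

/-- the special pairs do not occur: `L_n(q²)` against `C_n(q)` -/
theorem L_C {n q : ℕ} (hn : 4 ≤ n) (hq : 2 ≤ q)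
    (h : dd (.C n) q * num (.L n) (q ^ 2) = dd (.L n) (q ^ 2) * num (.C n) q) : False := by
  have ha : dd (.C n) q ≤ 2 := Nat.gcd_le_left _ (by norm_num)
  have hb : 1 ≤ dd (.L n) (q ^ 2) := Nat.gcd_pos_of_pos_left _ (by omega)
  have h1 : num (.C n) q = num (.L n) (q ^ 2) * (q ^ 2 - 1) := by
    obtain ⟨k, rfl⟩ := Nat.exists_eq_add_of_le' (show 1 ≤ n by omega)
    show ∏ i ∈ range (k + 1), (q ^ (2 * (i + 1)) - 1) = _
    rw [Finset.prod_range_succ']
    show _ = (∏ i ∈ range k, ((q ^ 2) ^ (i + 2) - 1)) * (q ^ 2 - 1)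
    congr 1
    apply Finset.prod_congr rfl
    intro i _
    rw [← pow_mul q 2 (i + 2)]
  have h2 : 0 < num (.L n) (q ^ 2) := by
    apply Nat.pos_of_ne_zero
    refine Finset.prod_ne_zero_iff.2 fun i _ => sub_one_ne ?_ (by omega)
    nlinarith
  have h3 : dd (.C n) q = dd (.L n) (q ^ 2) * (q ^ 2 - 1) := by
    apply Nat.eq_of_mul_eq_mul_right h2
    rw [h, h1]; ring
  have h4 : 3 ≤ q ^ 2 - 1 := by
    have : 4 ≤ q ^ 2 := by nlinarith
    omega
  have h5 : 1 * 3 ≤ dd (.L n) (q ^ 2) * (q ^ 2 - 1) := Nat.mul_le_mul hb h4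
  omega

/-- `L_n(q²)` against `D_{n+1}(q)` -/
theorem L_D {n q : ℕ} (hn : 4 ≤ n) (hq : 2 ≤ q)
    (h : dd (.D (n + 1)) q * num (.L n) (q ^ 2) = dd (.L n) (q ^ 2) * num (.D (n + 1)) q) : False := by
  have ha : dd (.D (n + 1)) q ≤ 4 := Nat.gcd_le_left _ (by norm_num)
  have hb : 1 ≤ dd (.L n) (q ^ 2) := Nat.gcd_pos_of_pos_left _ (by omega)
  have h1 : num (.D (n + 1)) q = num (.L n) (q ^ 2) * ((q ^ 2 - 1) * (q ^ (n + 1) - 1)) := by
    obtain ⟨k, rfl⟩ := Nat.exists_eq_add_of_le' (show 1 ≤ n by omega)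
    show (q ^ (k + 1 + 1) - 1) * ∏ i ∈ range (k + 1), (q ^ (2 * (i + 1)) - 1) = _
    rw [Finset.prod_range_succ']
    show _ = (∏ i ∈ range k, ((q ^ 2) ^ (i + 2) - 1)) * ((q ^ 2 - 1) * (q ^ (k + 1 + 1) - 1))
    have h0 : ∏ i ∈ range k, (q ^ (2 * (i + 1 + 1)) - 1) = ∏ i ∈ range k, ((q ^ 2) ^ (i + 2) - 1) := by
      apply Finset.prod_congr rfl
      intro i _
      rw [← pow_mul q 2 (i + 2)]
    rw [h0]
    show _ * (_ * (q ^ 2 - 1)) = _
    ring
  have h2 : 0 < num (.L n) (q ^ 2) := by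
    apply Nat.pos_of_ne_zero
    refine Finset.prod_ne_zero_iff.2 fun i _ => sub_one_ne ?_ (by omega)
    nlinarith
  have h3 : dd (.D (n + 1)) q = dd (.L n) (q ^ 2) * ((q ^ 2 - 1) * (q ^ (n + 1) - 1)) := by
    apply Nat.eq_of_mul_eq_mul_right h2
    rw [h, h1]; ring
  have h4 : 3 ≤ q ^ 2 - 1 := by
    have : 4 ≤ q ^ 2 := by nlinarith
    omega
  have h5 : 3 ≤ q ^ (n + 1) - 1 := by
    have h6 : 2 ^ 2 ≤ q ^ (n + 1) := (Nat.pow_le_pow_left hq 2).trans (Nat.pow_le_pow_right (by omega) (by omega))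
    omega
  have h6 : 1 * (3 * 3) ≤ dd (.L n) (q ^ 2) * ((q ^ 2 - 1) * (q ^ (n + 1) - 1)) :=
    Nat.mul_le_mul hb (Nat.mul_le_mul h4 h5)
  omega

/-- `L_n(q²)` against `²D_n(q)` -/
theorem L_DD {n q : ℕ} (hn : 4 ≤ n) (hq : 2 ≤ q)
    (hc : dd (.DD n) q * num (.L n) (q ^ 2) = dd (.L n) (q ^ 2) * num (.DD n) q) : False := by
  have ha : 1 ≤ dd (.DD n) q := gcd4_pos _
  have hb : dd (.L n) (q ^ 2) ≤ n := Nat.gcd_le_left _ (by omega)
  set a := dd (.DD n) q
  set b := dd (.L n) (q ^ 2)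
  set A := ∏ i ∈ range (n - 1), (q ^ (2 * (i + 1)) - 1) with hA
  have hA0 : 0 < A := Nat.pos_of_ne_zero (Finset.prod_ne_zero_iff.2 fun i _ => sub_one_ne hq (by omega))
  have h2 : num (.L n) (q ^ 2) * (q ^ 2 - 1) = A * (q ^ (2 * n) - 1) := by
    have h3 : ∏ i ∈ range n, (q ^ (2 * (i + 1)) - 1) = num (.L n) (q ^ 2) * (q ^ 2 - 1) := by
      obtain ⟨k, rfl⟩ := Nat.exists_eq_add_of_le' (show 1 ≤ n by omega)
      rw [Finset.prod_range_succ']
      show _ = (∏ i ∈ range k, ((q ^ 2) ^ (i + 2) - 1)) * (q ^ 2 - 1)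
      congr 1
      apply Finset.prod_congr rfl
      intro i _
      rw [← pow_mul q 2 (i + 2)]
    have h4 : ∏ i ∈ range n, (q ^ (2 * (i + 1)) - 1) = A * (q ^ (2 * n) - 1) := by
      obtain ⟨k, rfl⟩ := Nat.exists_eq_add_of_le' (show 1 ≤ n by omega)
      rw [Finset.prod_range_succ, hA]
      rfl
    rw [← h3, h4]
  have h5 : num (.DD n) q = (q ^ n + 1) * A := rfl
  have h6 : q ^ (2 * n) - 1 = (q ^ n - 1) * (q ^ n + 1) := by
    have g1 : 1 ≤ q ^ n := Nat.one_le_pow _ _ (by omega)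
    have g2 : 1 ≤ q ^ (2 * n) := Nat.one_le_pow _ _ (by omega)
    zify [g1, g2]; ring
  have h7 : a * (q ^ n - 1) = b * (q ^ 2 - 1) := by
    apply Nat.eq_of_mul_eq_mul_left (show 0 < A * (q ^ n + 1) by positivity)
    calc A * (q ^ n + 1) * (a * (q ^ n - 1)) = a * (A * ((q ^ n - 1) * (q ^ n + 1))) := by ring
      _ = a * (num (.L n) (q ^ 2) * (q ^ 2 - 1)) := by rw [h2, h6]
      _ = (a * num (.L n) (q ^ 2)) * (q ^ 2 - 1) := by ring
      _ = (b * num (.DD n) q) * (q ^ 2 - 1) := by rw [hc]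
      _ = A * (q ^ n + 1) * (b * (q ^ 2 - 1)) := by rw [h5]; ring
  have h8 : b * (q ^ 2 - 1) ≤ n * (q ^ 2 - 1) := Nat.mul_le_mul_right _ hb
  have h9 : q ^ n - 1 ≤ a * (q ^ n - 1) := Nat.le_mul_of_pos_left _ ha
  have h10 : n ≤ q ^ (n - 2) := by
    exact (le_two_pow_sub hn).trans (Nat.pow_le_pow_left hq _)
  have h11 : q ^ n = q ^ (n - 2) * q ^ 2 := by rw [← pow_add]; congr 1; omega
  have h12 : q ^ (n - 2) * (q ^ 2 - 1) + q ^ (n - 2) = q ^ n := by
    rw [h11]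
    have g1 : 1 ≤ q ^ 2 := Nat.one_le_pow _ _ (by omega)
    zify [g1]; ring
  have h13 : n * (q ^ 2 - 1) ≤ q ^ (n - 2) * (q ^ 2 - 1) := Nat.mul_le_mul_right _ h10
  omega

/-- `L₄(q³)` against `E₆(q)` -/
theorem L_E6 {q : ℕ} (hq : 2 ≤ q)
    (h : dd .E6 q * num (.L 4) (q ^ 3) = dd (.L 4) (q ^ 3) * num .E6 q) : False := by
  have ha : dd .E6 q ≤ 3 := Nat.gcd_le_left _ (by norm_num)
  have hb : 1 ≤ dd (.L 4) (q ^ 3) := Nat.gcd_pos_of_pos_left _ (by omega)
  have h0 : num (.L 4) (q ^ 3) = (q ^ 6 - 1) * (q ^ 9 - 1) * (q ^ 12 - 1) := by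
    show ∏ i ∈ range 3, ((q ^ 3) ^ (i + 2) - 1) = _
    rw [Finset.prod_range_succ, Finset.prod_range_succ, Finset.prod_range_one, ← pow_mul, ← pow_mul, ← pow_mul]
  have h1 : num .E6 q = num (.L 4) (q ^ 3) * ((q ^ 2 - 1) * ((q ^ 5 - 1) * (q ^ 8 - 1))) := by
    rw [h0]
    show (q ^ 2 - 1) * (q ^ 5 - 1) * (q ^ 6 - 1) * (q ^ 8 - 1) * (q ^ 9 - 1) * (q ^ 12 - 1) = _
    ring
  have g : ∀ k : ℕ, 2 ≤ k → 3 ≤ q ^ k - 1 := by
    intro k hk
    have h6 : 2 ^ 2 ≤ q ^ k := (Nat.pow_le_pow_left hq 2).trans (Nat.pow_le_pow_right (by omega) hk)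
    omega
  have h2 : 0 < num (.L 4) (q ^ 3) := by
    rw [h0]
    have h3 := g 6 (by norm_num)
    have h4 := g 9 (by norm_num)
    have h5 := g 12 (by norm_num)
    exact Nat.mul_pos (Nat.mul_pos (by omega) (by omega)) (by omega)
  have h3 : dd .E6 q = dd (.L 4) (q ^ 3) * ((q ^ 2 - 1) * ((q ^ 5 - 1) * (q ^ 8 - 1))) := by
    apply Nat.eq_of_mul_eq_mul_right h2
    rw [h, h1]; ring
  have h6 : 1 * (3 * (3 * 3)) ≤ dd (.L 4) (q ^ 3) * ((q ^ 2 - 1) * ((q ^ 5 - 1) * (q ^ 8 - 1))) :=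
    Nat.mul_le_mul hb (Nat.mul_le_mul (g 2 le_rfl) (Nat.mul_le_mul (g 5 (by norm_num)) (g 8 (by norm_num))))
  omega

/-- `L₅(q⁶)` against `E₈(q)` -/
theorem L_E8 {q : ℕ} (hq : 2 ≤ q)
    (h : dd .E8 q * num (.L 5) (q ^ 6) = dd (.L 5) (q ^ 6) * num .E8 q) : False := by
  have ha : dd .E8 q = 1 := rfl
  have hb : 1 ≤ dd (.L 5) (q ^ 6) := Nat.gcd_pos_of_pos_left _ (by omega)
  have h0 : num (.L 5) (q ^ 6) = (q ^ 12 - 1) * (q ^ 18 - 1) * (q ^ 24 - 1) * (q ^ 30 - 1) := by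
    show ∏ i ∈ range 4, ((q ^ 6) ^ (i + 2) - 1) = _
    rw [Finset.prod_range_succ, Finset.prod_range_succ, Finset.prod_range_succ, Finset.prod_range_one, ← pow_mul,
      ← pow_mul, ← pow_mul, ← pow_mul]
  have h1 : num .E8 q = num (.L 5) (q ^ 6) * ((q ^ 2 - 1) * ((q ^ 8 - 1) * ((q ^ 14 - 1) * (q ^ 20 - 1)))) := by
    rw [h0]
    show (q ^ 2 - 1) * (q ^ 8 - 1) * (q ^ 12 - 1) * (q ^ 14 - 1) * (q ^ 18 - 1) * (q ^ 20 - 1) * (q ^ 24 - 1) *
      (q ^ 30 - 1) = _
    ring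
  have g : ∀ k : ℕ, 2 ≤ k → 3 ≤ q ^ k - 1 := by
    intro k hk
    have h6 : 2 ^ 2 ≤ q ^ k := (Nat.pow_le_pow_left hq 2).trans (Nat.pow_le_pow_right (by omega) hk)
    omega
  have h2 : 0 < num (.L 5) (q ^ 6) := by
    rw [h0]
    have h3 := g 12 (by norm_num)
    have h4 := g 18 (by norm_num)
    have h5 := g 24 (by norm_num)
    have h6 := g 30 (by norm_num)
    exact Nat.mul_pos (Nat.mul_pos (Nat.mul_pos (by omega) (by omega)) (by omega)) (by omega)
  have h3 : dd .E8 q = dd (.L 5) (q ^ 6) * ((q ^ 2 - 1) * ((q ^ 8 - 1) * ((q ^ 14 - 1) * (q ^ 20 - 1)))) := by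
    apply Nat.eq_of_mul_eq_mul_right h2
    rw [h, h1]; ring
  have h6 : 1 * (3 * (3 * (3 * 3))) ≤
      dd (.L 5) (q ^ 6) * ((q ^ 2 - 1) * ((q ^ 8 - 1) * ((q ^ 14 - 1) * (q ^ 20 - 1)))) :=
    Nat.mul_le_mul hb (Nat.mul_le_mul (g 2 le_rfl) (Nat.mul_le_mul (g 8 (by norm_num))
      (Nat.mul_le_mul (g 14 (by norm_num)) (g 20 (by norm_num)))))
  omega

/-- **Equal characteristic**: the part of the order of `L_n(q)`, `n ≥ 4`, prime to the characteristic determines the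
order. -/
theorem same_p {X : Art.Sh} {n p f g a M M' : ℕ} (hn : 4 ≤ n) (h : Art.Real (.L n) p f M)
    (h' : Art.Real X p g M') (hk : M = p ^ a * M') : M = M' := by
  have hp := h.hp
  have hf := h.hf
  have hg := h'.hf
  have hcr := cross' h h' hk
  have d1 : ∀ r : ℕ, r.Prime → r ≠ p → r ∣ M → r ∣ M' := by
    intro r hr hrp hd
    rw [hk, hr.dvd_mul] at hd
    rcases hd with hd | hd
    · exact absurd ((Nat.prime_dvd_prime_iff_eq hr hp).1 (hr.dvd_of_dvd_pow hd)) hrp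
    · exact hd
  have d2 : ∀ r : ℕ, r.Prime → r ≠ p → r ∣ M' → r ∣ M := by
    intro r hr hrp hd
    rw [hk]
    exact hd.mul_left _
  have hDL : DM (.L n) = n := rfl
  have hBL : BM (.L n) = n - 1 := rfl
  by_cases hs : p = 2 ∧ f * n ≤ 8
  · obtain ⟨rfl, hs⟩ := hs
    have h8 : g * DM X ≤ 8 := by
      by_contra hcon
      have h1 := DM_le' h' h d2 (by omega) (by omega)
      rw [hDL] at h1
      omega
    have hkap := kap_le h'
    have hfour := four_NN h'
    have hND := DM_ge h'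
    have hNN := NN_pos h'
    have hD8 : DM X ≤ 8 := by nlinarith
    have hb : g * NN X ≤ 28 := by
      have h1 : 4 * (g * NN X) = (g * DM X) * kap X := by
        calc 4 * (g * NN X) = g * (4 * NN X) := by ring
          _ = g * (DM X * kap X) := by rw [hfour]
          _ = (g * DM X) * kap X := by ring
      have h2 : (g * DM X) * kap X ≤ 8 * 14 := Nat.mul_le_mul h8 (by omega)
      omega
    have hnf : (n, f) ∈ [(4, 1), (5, 1), (6, 1), (7, 1), (8, 1), (4, 2)] := by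
      have h1 : f ≤ 2 := by nlinarith
      have h2 : n ≤ 8 := by nlinarith
      interval_cases f
      · interval_cases n <;> simp
      · have h3 : n = 4 := by omega
        subst h3
        simp
    have hv : g * NN X ∈ List.range' 1 28 := by
      rw [List.mem_range'_1]
      have : 1 ≤ g * NN X := Nat.mul_pos hg hNN
      omega
    have h2 := fin_same (n, f) hnf _ hv _ (mem_ents h' rfl) hcr
    rw [val_eq h', val_eq h] at h2
    exact h2
  · have h3n : 4 ≤ f * n := by nlinarith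
    have hD1 : f * DM (.L n) ≤ g * DM X := by
      refine DM_le' h h' d1 ?_ ?_
      · rw [hDL]; omega
      · rw [hDL]; omega
    have hD2 : g * DM X ≤ f * DM (.L n) := by
      refine DM_le' h' h d2 ?_ ?_
      · rw [hDL] at hD1; omega
      · rw [hDL] at hD1; omega
    have hD : f * DM (.L n) = g * DM X := le_antisymm hD1 hD2
    have hB : DM (.L n) < 2 * BM (.L n) := by rw [hDL, hBL]; omega
    have hfn : f * n = f * (n - 1) + f := by
      obtain ⟨k, rfl⟩ := Nat.exists_eq_add_of_le' (show 1 ≤ n by omega)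
      rw [Nat.add_sub_cancel]; ring
    have h3f : 3 * f ≤ f * (n - 1) := by
      rw [mul_comm]; exact Nat.mul_le_mul_left _ (by omega)
    have hB1 : f * BM (.L n) ≤ g * BM X := by
      refine BM_le' h h' d1 hB hD ?_ ?_
      · rw [hBL]; omega
      · rw [hBL]; omega
    have hBX : DM X < 2 * BM X := by
      have h5 : g * DM X < g * (2 * BM X) := by
        calc g * DM X = f * DM (.L n) := hD.symm
          _ < f * (2 * BM (.L n)) := Nat.mul_lt_mul_of_pos_left hB hf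
          _ = 2 * (f * BM (.L n)) := by ring
          _ ≤ 2 * (g * BM X) := Nat.mul_le_mul_left _ hB1
          _ = g * (2 * BM X) := by ring
      exact Nat.lt_of_mul_lt_mul_left h5
    have hB2 : g * BM X ≤ f * BM (.L n) := by
      refine BM_le' h' h d2 hBX hD.symm ?_ ?_
      · rw [hBL] at hB1; omega
      · rw [hBL] at hB1; omega
    have hBB : f * BM (.L n) = g * BM X := le_antisymm hB1 hB2
    have hltX := BM_lt h'
    have hfd : f = g * (DM X - BM X) := by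
      rw [Nat.mul_sub, ← hD, ← hBB, hDL, hBL]
      omega
    have hnd : n * (DM X - BM X) = DM X := by
      apply Nat.eq_of_mul_eq_mul_left hg
      rw [← hD, hDL]
      calc g * (n * (DM X - BM X)) = (g * (DM X - BM X)) * n := by ring
        _ = f * n := by rw [← hfd]
    have hq := h'.q_ge
    have pw : ∀ k : ℕ, p ^ (g * k) = (p ^ g) ^ k := fun k => pow_mul p g k
    have hT := typA h' hBX
    generalize hDg : DM X = D at *
    generalize hdg : D - BM X = d at *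
    generalize hkg : kap X = k at *
    cases hT with
    | L m hm =>
      have h1 : D = n := by omega
      subst h1
      rw [mul_one] at hfd
      subst hfd
      have h2 := h.eq
      have h3 := h'.eq
      rw [← h3] at h2
      exact Nat.eq_of_mul_eq_mul_left (Nat.pos_of_ne_zero h.dd_ne) h2
    | C m hm =>
      have h1 : m = n := by omega
      subst h1
      rw [hfd, pw] at hcr
      exact (L_C hn hq hcr).elim
    | U4 => exfalso; omega
    | Ue m hm => exfalso; omega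
    | Uo m hm => exfalso; omega
    | D m hm =>
      have h1 : m = n + 1 := by omega
      subst h1
      rw [hfd, pw] at hcr
      exact (L_D hn hq hcr).elim
    | DD m hm =>
      have h1 : m = n := by omega
      subst h1
      rw [hfd, pw] at hcr
      exact (L_DD hn hq hcr).elim
    | F4 => exfalso; omega
    | E6 =>
      have h1 : n = 4 := by omega
      subst h1
      rw [hfd, pw] at hcr
      exact (L_E6 hq hcr).elim
    | E7 => exfalso; omega
    | E8 =>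
      have h1 : n = 5 := by omega
      subst h1
      rw [hfd, pw] at hcr
      exact (L_E8 hq hcr).elim
    | TE6 => exfalso; omega

end Cfsg.Agent.H124.Cod.SameP
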